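import Cfsg.Agent.S1101
import Cfsg.Agent.S1154
import Cfsg.Agent.S0819
import Cfsg.Agent.S0243
import Cfsg.Agent.ClassicalGeometry.PSLTorus
import Cfsg.Agent.H67.SzOdd
import Cfsg.Agent.H568.RowAlt
import Cfsg.Agent.StandardComponent.AltAut
import Cfsg.Agent.BpSpor.Inn.Base
import Cfsg.Agent.CpAutTits.Row
import Cfsg.Agent.S1074
import Cfsg.Agent.Cit.Eleven
import Cfsg.Agent.UGT.End.MEleven
import Cfsg.Agent.UGT.End.McLOuter
import Cfsg.Agent.TypeM.FactsMcL
import Cfsg.Agent.OddHalf.Table.OutFi22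
import Cfsg.Agent.S1696
import Cfsg.Agent.S1703
import Cfsg.Agent.KFacts.J4.SheetJ4

/-!
# S5258, PU-U3-odd: the numerical exclusions (helper476)
-/

set_option autoImplicit false

namespace Cfsg.Agent.H476.PU

open Cfsg Subgroup

universe u

theorem ree {K : Type u} [Group K] (h : Lie.IsoRee K) (hexp : ∀ x : K, (∃ k, x ^ 3 ^ k = 1) → x ^ 3 = 1) :
    False := by
  obtain ⟨F, _, _, m, hm, hF, ⟨e⟩⟩ := h
  have h1 := (S1101.result (K := F) hF).2
  have h2 := S1154.result (K := F) hm hF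
  obtain ⟨U, hU⟩ : ∃ U, U = Cfsg.Lie.chevG2.posUnipotent F ⊓ Cfsg.Lie.twistedG2 F (3 ^ m) := ⟨_, rfl⟩
  rw [← hU] at h1 h2
  have hfU : Finite ↥U := inferInstance
  have h3 : ∀ u : ↥U, u ^ 3 = 1 := by
    intro u
    have huT : (u : GL Cfsg.Lie.chevG2.Idx F) ∈ Cfsg.Lie.twistedG2 F (3 ^ m) := (hU.le u.2).2
    let x : K := e.symm ⟨u, huT⟩
    have hx : ∀ k : ℕ, x ^ k = 1 ↔ u ^ k = 1 := by
      intro k
      change (e.symm ⟨(u : GL Cfsg.Lie.chevG2.Idx F), huT⟩) ^ k = 1 ↔ _
      rw [← map_pow, EmbeddingLike.map_eq_one_iff, Subtype.ext_iff, Subtype.ext_iff]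
      rfl
    rw [← hx]
    apply hexp
    refine ⟨(2 * m + 1) * 3, (hx _).2 ?_⟩
    rw [pow_mul, ← h1]
    exact pow_card_eq_one'
  have h4 : Nat.card {u : ↥U // orderOf u = 3} = Nat.card {u : ↥U // u ≠ 1} := by
    refine Nat.card_congr (Equiv.subtypeEquivRight fun u => ?_)
    constructor
    · intro h hu
      rw [hu, orderOf_one] at h
      omega
    · intro h
      exact orderOf_eq_prime (h3 u) h
  have h5 : Nat.card {u : ↥U // u ≠ 1} + 1 = Nat.card ↥U := by
    classical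
    let _ := Fintype.ofFinite ↥U
    rw [Nat.card_eq_fintype_card, Nat.card_eq_fintype_card, Fintype.card_subtype_compl, Fintype.card_subtype_eq]
    have : 0 < Fintype.card ↥U := Fintype.card_pos
    omega
  rw [← h4, h1, h2] at h5
  have h6 : 2 ≤ 3 ^ (2 * m + 1) := by
    calc 2 ≤ 3 ^ 1 := by norm_num
      _ ≤ 3 ^ (2 * m + 1) := Nat.pow_le_pow_right (by norm_num) (by omega)
  generalize 3 ^ (2 * m + 1) = q at h5 h6
  have h7 : q ^ 2 < q ^ 3 := Nat.pow_lt_pow_right (by omega) (by norm_num)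
  have h8 : 0 < q ^ 2 := by positivity
  omega

theorem not_sq_dvd_factorial {p : ℕ} (hp : p.Prime) {n : ℕ} (hn : n < 2 * p) : ¬ p ^ 2 ∣ n.factorial := by
  have key : ∀ k, k < p → ¬ p ^ 2 ∣ (p + k).factorial := by
    intro k
    induction k with
    | zero =>
      intro _ h
      obtain ⟨m, hm⟩ : ∃ m, p = m + 1 := ⟨p - 1, by have := hp.pos; omega⟩
      rw [Nat.add_zero, hm, Nat.factorial_succ, ← hm, pow_two] at h
      have h1 := Nat.dvd_of_mul_dvd_mul_left hp.pos h
      have h2 := (hp.dvd_factorial).1 h1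
      omega
    | succ k ih =>
      intro hk h
      rw [← Nat.add_assoc, Nat.factorial_succ] at h
      refine ih (by omega) ((Nat.Coprime.dvd_mul_left ?_).1 h)
      refine Nat.Coprime.pow_left 2 ((Nat.Prime.coprime_iff_not_dvd hp).2 ?_)
      intro h1
      have h2 : p ∣ k + 1 := (Nat.dvd_add_right (dvd_refl p)).1 (by rwa [Nat.add_assoc] at h1)
      have h3 := Nat.le_of_dvd (by omega) h2
      omega
  intro h
  by_cases hlt : n < p
  · have h1 : p ∣ n.factorial := (dvd_pow_self p two_ne_zero).trans h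
    have h2 := (hp.dvd_factorial).1 h1
    omega
  · obtain ⟨k, rfl⟩ : ∃ k, n = p + k := ⟨n - p, by omega⟩
    exact key k (by omega) h

/-- automorphisms of odd prime order of the alternating groups are inner -/
theorem autInner_alt {n : ℕ} (hn : 5 ≤ n) {p : ℕ} (hp : p.Prime) (hp2 : p ≠ 2) :
    CpAut.AutInner p ↥(alternatingGroup (Fin n)) := by
  rcases Nat.lt_or_ge n 7 with h7 | h7
  · interval_cases n
    · exact H568.autInner_alt5 hp hp2
    · exact H568.autInner_alt6 hp hp2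
  · refine CpAut.autInner_of_sq hp hp2 fun α => ?_
    obtain ⟨k, rfl⟩ : ∃ k, n = k + 2 := ⟨n - 2, by omega⟩
    obtain ⟨σ, hσ⟩ := StandardComponent.AltAut.exists_conj (m := k) (by omega) α
    have h2 : σ * σ ∈ alternatingGroup (Fin (k + 2)) := by
      rw [Equiv.Perm.mem_alternatingGroup, map_mul]
      exact Int.units_mul_self _
    refine ⟨⟨σ * σ, h2⟩, ?_⟩
    apply MulEquiv.ext
    intro x
    apply Subtype.ext
    change _ = σ * σ * (x : Equiv.Perm (Fin (k + 2))) * (σ * σ)⁻¹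
    rw [MulAut.mul_apply, hσ, hσ]
    group

theorem alt {K : Type u} [Group K] [Finite K] {p n : ℕ} (hp : p.Prime) (hp2 : p ≠ 2) (hn : 1 ≤ n)
    (hinn : CpAut.AutInner p K → (Nat.card K).factorization p = 3 * n)
    (h : Nonempty (K ≃* ↥(alternatingGroup (Fin (2 * p))))) : False := by
  obtain ⟨e⟩ := h
  have hp3 : 3 ≤ p := by have := hp.two_le; omega
  have h1 := hinn ((autInner_alt (by omega) hp hp2).congr e.symm)
  have h2 : p ^ 3 ∣ Nat.card K := by
    have h3 := Nat.ordProj_dvd (Nat.card K) p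
    rw [h1] at h3
    exact (pow_dvd_pow p (by omega)).trans h3
  have h3 : 2 * Nat.card K = (2 * p).factorial := by
    have : Nontrivial (Fin (2 * p)) := Fin.nontrivial_iff_two_le.2 (by omega)
    have h := nat_card_alternatingGroup (α := Fin (2 * p))
    rw [Nat.card_fin] at h
    rw [Nat.card_congr e.toEquiv, h]
    obtain ⟨k, hk⟩ : 2 ∣ (2 * p).factorial := Nat.dvd_factorial (by norm_num) (by omega)
    rw [hk]
    omega
  have h4 : p ^ 3 ∣ (2 * p).factorial := by rw [← h3]; exact h2.mul_left 2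
  obtain ⟨k, hk⟩ : ∃ k, 2 * p = k + 1 := ⟨2 * p - 1, by omega⟩
  rw [hk, Nat.factorial_succ, ← hk, pow_succ', mul_comm 2 p, mul_assoc] at h4
  have h5 := Nat.dvd_of_mul_dvd_mul_left hp.pos h4
  have h6 : Nat.Coprime (p ^ 2) 2 := Nat.Coprime.pow_left 2 ((Nat.coprime_primes hp Nat.prime_two).2 hp2)
  have h7 := h6.dvd_of_dvd_mul_left h5
  exact not_sq_dvd_factorial hp (by omega) h7

theorem l34 {K : Type u} [Group K] [Finite K] [IsSimpleGroup K] (hS : 27 ∣ Nat.card (Sylow 3 K) - 1)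
    {F : Type} [Field F] [Fintype F] (hF : Fintype.card F = 4)
    (e : K ≃* Matrix.ProjectiveSpecialLinearGroup (Fin 3) F) : False := by
  have h3 : Fact (Nat.Prime 3) := ⟨Nat.prime_three⟩
  have hcard : Nat.card K = 20160 := by
    rw [Nat.card_congr e.toEquiv]
    have h := S0243.result (F := F) hF 3 (by norm_num)
    rw [Fin.prod_univ_three] at h
    norm_num at h
    omega
  obtain ⟨P⟩ : Nonempty (Sylow 3 K) := inferInstance
  have hP : Nat.card (P : Subgroup K) = 9 := by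
    rw [P.card_eq_multiplicity, hcard]
    have : (20160 : ℕ).factorization 3 = 2 := by
      rw [← Nat.multiplicity_eq_factorization Nat.prime_three (by norm_num)]
      exact multiplicity_eq_of_dvd_of_not_dvd (by norm_num) (by norm_num)
    rw [this]
    norm_num
  have hidx : (P : Subgroup K).index = 2240 := by
    have := (P : Subgroup K).card_mul_index
    rw [hP, hcard] at this
    omega
  have hs : Nat.card (Sylow 3 K) ∣ 2240 := by rw [← hidx]; exact P.card_dvd_index
  have hs0 : 0 < Nat.card (Sylow 3 K) := Nat.card_pos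
  have hcases : Nat.card (Sylow 3 K) = 1 ∨ Nat.card (Sylow 3 K) = 28 := by
    have hle := Nat.le_of_dvd (by norm_num) hs
    obtain ⟨c, hc⟩ := hS
    obtain ⟨s, hs'⟩ : ∃ s, s = Nat.card (Sylow 3 K) := ⟨_, rfl⟩
    rw [← hs'] at hs hs0 hle hc ⊢
    have hsc : s = 27 * c + 1 := by omega
    have hc83 : c ≤ 82 := by omega
    subst hsc
    clear hs' hs0 hc hle
    revert hs
    interval_cases c <;> first | (intro _; left; rfl) | (intro _; right; rfl) | (intro h; exfalso; revert h; norm_num)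
  have hnorm : Nat.card (Sylow 3 K) = (normalizer ((P : Subgroup K) : Set K)).index := P.card_eq_index_normalizer
  rcases hcases with h1 | h1
  · rw [h1] at hnorm
    have h2 : normalizer ((P : Subgroup K) : Set K) = ⊤ := Subgroup.index_eq_one.1 hnorm.symm
    have h4 : (P : Subgroup K).Normal := Subgroup.normalizer_eq_top_iff.1 h2
    rcases h4.eq_bot_or_eq_top with h5 | h5
    · rw [h5, Subgroup.card_bot] at hP
      omega
    · rw [h5, Subgroup.card_top, hcard] at hP
      omega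
  · rw [h1] at hnorm
    have h2 := (normalizer ((P : Subgroup K) : Set K)).card_mul_index
    rw [← hnorm, hcard] at h2
    have h5' : Fact (Nat.Prime 5) := ⟨Nat.prime_five⟩
    obtain ⟨y, hy⟩ := exists_prime_orderOf_dvd_card' 5 (G := ↥(normalizer ((P : Subgroup K) : Set K)))
      (by
        have : Nat.card ↥(normalizer ((P : Subgroup K) : Set K)) = 720 := by omega
        rw [this]
        norm_num)
    -- the action of `y` on `P`
    let A : Subgroup K := zpowers (y : K)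
    have hA : A ≤ normalizer ((P : Subgroup K) : Set K) := zpowers_le.2 y.2
    let f : Function.End ↥(P : Subgroup K) := fun x => ⟨(y : K) * x * (y : K)⁻¹, (mem_normalizer_iff.1 y.2 _).1 x.2⟩
    have hf1 : ∀ (k : ℕ) (x : ↥(P : Subgroup K)), (((f ^ k) x : ↥(P : Subgroup K)) : K) = (y : K) ^ k * x * ((y : K) ^ k)⁻¹ := by
      intro k
      induction k with
      | zero => intro x; simp; rfl
      | succ k ih =>
        intro x
        rw [pow_succ]
        change (((f ^ k) (f x) : ↥(P : Subgroup K)) : K) = _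
        rw [ih]
        change (y : K) ^ k * ((y : K) * x * (y : K)⁻¹) * ((y : K) ^ k)⁻¹ = _
        rw [pow_succ]
        group
    have hy5 : (y : K) ^ 5 = 1 := by
      rw [← Subgroup.coe_pow, ← hy, pow_orderOf_eq_one, Subgroup.coe_one]
    have hf : f ^ 5 ^ 1 = 1 := by
      funext x
      apply Subtype.ext
      rw [pow_one, hf1, hy5]
      simp
      rfl
    classical
    let _ : Fintype ↥(P : Subgroup K) := Fintype.ofFinite _
    have hmod := Equiv.Perm.card_fixedPoints_modEq hf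
    rw [← Nat.card_eq_fintype_card, hP] at hmod
    -- the fixed points form a subgroup
    let C : Subgroup ↥(P : Subgroup K) := (centralizer {(y : K)}).subgroupOf (P : Subgroup K)
    have hC : ∀ x : ↥(P : Subgroup K), x ∈ C ↔ x ∈ Function.fixedPoints f := by
      intro x
      rw [Subgroup.mem_subgroupOf, mem_centralizer_singleton_iff, Function.mem_fixedPoints, Function.IsFixedPt,
        Subtype.ext_iff]
      change _ ↔ (y : K) * x * (y : K)⁻¹ = x
      rw [mul_inv_eq_iff_eq_mul]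
      exact eq_comm
    have hCc : Fintype.card (Function.fixedPoints f) = Nat.card ↥C := by
      rw [← Nat.card_eq_fintype_card]
      exact (Nat.card_congr (Equiv.subtypeEquivRight hC)).symm
    have hCd : Nat.card ↥C ∣ 9 := by rw [← hP]; exact card_subgroup_dvd_card C
    rw [hCc] at hmod
    have hC9 : Nat.card ↥C = 9 := by
      have h6 : Nat.card ↥C = 1 ∨ Nat.card ↥C = 3 ∨ Nat.card ↥C = 9 := by
        have : Nat.card ↥C ∈ Nat.divisors 9 := Nat.mem_divisors.2 ⟨hCd, by norm_num⟩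
        have h7 : Nat.divisors 9 = {1, 3, 9} := by decide
        rw [h7] at this
        simpa using this
      have h8 : 9 % 5 = Nat.card ↥C % 5 := hmod
      rcases h6 with h6 | h6 | h6
      · rw [h6] at h8; omega
      · rw [h6] at h8; omega
      · exact h6
    have hCtop : C = ⊤ := Subgroup.eq_top_of_card_eq _ (by rw [hC9, hP])
    obtain ⟨x, hx⟩ := exists_prime_orderOf_dvd_card' 3 (G := ↥(P : Subgroup K)) (by rw [hP]; norm_num)
    have hxC : x ∈ C := by rw [hCtop]; exact mem_top x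
    rw [Subgroup.mem_subgroupOf, mem_centralizer_singleton_iff] at hxC
    have hcomm : Commute (x : K) (y : K) := hxC
    have hox : orderOf (x : K) = 3 := by rw [Subgroup.orderOf_coe, hx]
    have hoy : orderOf (y : K) = 5 := by rw [Subgroup.orderOf_coe, hy]
    have h15 : orderOf ((x : K) * y) = 15 := by
      rw [hcomm.orderOf_mul_eq_mul_orderOf_of_coprime (by rw [hox, hoy]; norm_num), hox, hoy]
    refine S0819.result hF (e ((x : K) * y)) ?_
    rw [MulEquiv.orderOf_eq, h15]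

theorem l28 {K : Type u} [Group K] (hexp : ∀ x : K, (∃ k, x ^ 3 ^ k = 1) → x ^ 3 = 1)
    {F : Type} [Field F] [Fintype F] (hF : Fintype.card F = 8)
    (e : K ≃* Matrix.ProjectiveSpecialLinearGroup (Fin 2) F) : False := by
  obtain ⟨C, H, -, -, hcyc, hC, -, -⟩ := ClassicalGeometry.PSLTorus.exists_psl_torus F
  rw [hF] at hC
  have hC9 : Nat.card C = 9 := by rw [hC]; norm_num
  obtain ⟨g, hg⟩ := hcyc.exists_generator
  have h1 : orderOf g = 9 := by rw [orderOf_eq_card_of_forall_mem_zpowers hg, hC9]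
  have h2 : orderOf (e.symm (g : Matrix.ProjectiveSpecialLinearGroup (Fin 2) F)) = 9 := by
    rw [MulEquiv.orderOf_eq, Subgroup.orderOf_coe, h1]
  have h3 := hexp _ ⟨2, by
    have := pow_orderOf_eq_one (e.symm (g : Matrix.ProjectiveSpecialLinearGroup (Fin 2) F))
    rwa [h2] at this⟩
  have h4 := orderOf_dvd_of_pow_eq_one h3
  rw [h2] at h4
  revert h4
  norm_num

theorem sz32 {K : Type u} [Group K] (hexp : ∀ x : K, (∃ k, x ^ 5 ^ k = 1) → x ^ 5 = 1)
    {F : Type} [Field F] [Fintype F] (hF : Fintype.card F = 32)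
    (e : K ≃* ↥(Lie.Sz F 8)) : False := by
  have h5 : Fact (Nat.Prime 5) := ⟨Nat.prime_five⟩
  have hF' : Fintype.card F = 2 ^ (2 * 2 + 1) := by rw [hF]; norm_num
  have hcard := (S1163.result (F := F) (m := 2) (by norm_num) hF').1
  have hcyc := fun P => H67.SzOdd.sylow_cyclic (F := F) (m := 2) (by norm_num) hF' (p := 5) (by norm_num) P
  have h8 : (2 : ℕ) ^ (2 + 1) = 8 := by norm_num
  rw [h8] at hcard hcyc
  have hcard' : Nat.card ↥(Lie.Sz F 8) = 32537600 := by rw [hcard]; norm_num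
  have hfin : Finite ↥(Lie.Sz F 8) := Nat.finite_of_card_ne_zero (by rw [hcard']; norm_num)
  obtain ⟨P⟩ : Nonempty (Sylow 5 ↥(Lie.Sz F 8)) := inferInstance
  have hP : Nat.card (P : Subgroup ↥(Lie.Sz F 8)) = 25 := by
    rw [P.card_eq_multiplicity, hcard']
    have : (32537600 : ℕ).factorization 5 = 2 := by
      rw [← Nat.multiplicity_eq_factorization Nat.prime_five (by norm_num)]
      exact multiplicity_eq_of_dvd_of_not_dvd (by norm_num) (by norm_num)
    rw [this]
    norm_num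
  obtain ⟨g, hg⟩ := (hcyc P).exists_generator
  have h1 : orderOf g = 25 := (orderOf_eq_card_of_forall_mem_zpowers hg).trans hP
  have h2 : orderOf (e.symm (g : ↥(Lie.Sz F 8))) = 25 := by
    rw [MulEquiv.orderOf_eq, Subgroup.orderOf_coe, h1]
  have h3 := hexp _ ⟨2, by
    have := pow_orderOf_eq_one (e.symm (g : ↥(Lie.Sz F 8)))
    rwa [h2] at this⟩
  have h4 := orderOf_dvd_of_pow_eq_one h3
  rw [h2] at h4
  revert h4
  norm_num

/-- inner groups: `|K|_p = p²` is impossible -/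
theorem two_ne {K : Type u} [Group K] {p n N : ℕ} (hN : Nat.card K = N) (hn : 1 ≤ n)
    (hfac : (Nat.card K).factorization p = 3 * n) (h3 : ¬ p ^ 3 ∣ N) : False := by
  apply h3
  have h4 := Nat.ordProj_dvd (Nat.card K) p
  rw [hfac] at h4
  rw [← hN]
  exact (pow_dvd_pow p (by omega)).trans h4

theorem gl5 : ¬ 729 ∣ Nat.card (GL (Fin (6 * 1)) (ZMod 5)) := by
  have h5 : Fact (Nat.Prime 5) := ⟨Nat.prime_five⟩
  rw [Matrix.card_GL_field, ZMod.card]
  change ¬ 729 ∣ ∏ i : Fin 6, (5 ^ (6 * 1) - 5 ^ (i : ℕ))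
  rw [Fin.prod_univ_six]
  norm_num

theorem gl11 : ¬ 43 ∣ Nat.card (GL (Fin (6 * 1)) (ZMod 11)) := by
  have h5 : Fact (Nat.Prime 11) := ⟨by norm_num⟩
  rw [Matrix.card_GL_field, ZMod.card]
  change ¬ 43 ∣ ∏ i : Fin 6, (11 ^ (6 * 1) - 11 ^ (i : ℕ))
  rw [Fin.prod_univ_six]
  norm_num

theorem mcl {K : Type u} [Group K] {n : ℕ} (hn : 1 ≤ n) (hc : Nat.card K = 898128000)
    (hGL : Nat.card K ∣ Nat.card (GL (Fin (6 * n)) (ZMod 5)))
    (hfac : (Nat.card K).factorization 5 = 3 * n) : False := by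
  have h1 : n = 1 := by
    by_contra hne
    have h4 := Nat.ordProj_dvd (Nat.card K) 5
    rw [hfac] at h4
    have h5 : 5 ^ 4 ∣ 898128000 := by
      rw [← hc]
      exact (pow_dvd_pow 5 (by omega)).trans h4
    revert h5
    norm_num
  subst h1
  apply gl5
  refine Dvd.dvd.trans ?_ hGL
  rw [hc]
  norm_num

theorem j4 {K : Type u} [Group K] {n : ℕ} (hn : 1 ≤ n) (hc : Nat.card K = 86775571046077562880)
    (hGL : Nat.card K ∣ Nat.card (GL (Fin (6 * n)) (ZMod 11)))
    (hfac : (Nat.card K).factorization 11 = 3 * n) : False := by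
  have h1 : n = 1 := by
    by_contra hne
    have h4 := Nat.ordProj_dvd (Nat.card K) 11
    rw [hfac] at h4
    have h5 : 11 ^ 4 ∣ 86775571046077562880 := by
      rw [← hc]
      exact (pow_dvd_pow 11 (by omega)).trans h4
    revert h5
    norm_num
  subst h1
  apply gl11
  refine Dvd.dvd.trans ?_ hGL
  rw [hc]
  norm_num

open Cfsg.Agent.BpSpor.Inn in
theorem inn_m11 {K : Type u} [Group K] [Finite K] (h : Spor.IsoM11 K) : OddInn K :=
  of_inner (Cfsg.Agent.UGT.End.MEleven.inner h)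

open Cfsg.Agent.BpSpor.Inn in
theorem inn_mcl {K : Type u} [Group K] (h : Spor.IsoMcL K) : OddInn K := by
  obtain ⟨hfin, hs, hcard, ⟨L⟩⟩ := Cfsg.Agent.TypeM.FactsMcL.facts h
  intro p hp hp2 α hα
  have h1 : Odd (orderOf α) := by
    rw [hα]
    exact hp.odd_of_ne_two hp2
  obtain ⟨g, hg⟩ := Cfsg.Agent.UGT.End.McLOuter.inner_of_odd L hcard α h1
  exact ⟨g, hg.symm⟩

open Cfsg.Agent.BpSpor.Inn in
theorem inn_fi22 {K : Type u} [Group K] (h : Spor.IsoFi22 K) : OddInn K := by
  obtain ⟨e⟩ := h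
  refine OddInn.congr e (of_sq fun α => ?_)
  by_cases hα : ∃ x, α = MulAut.conj x
  · obtain ⟨x, rfl⟩ := hα
    exact ⟨x * x, by rw [map_mul]⟩
  · push Not at hα
    exact Cfsg.Agent.OddHalf.Table.OutFi22.mul_outer α α hα hα

open Cfsg.Agent.BpSpor.Inn in
theorem inn_j4 {K : Type u} [Group K] (h : Spor.IsoJ4 K) : OddInn K := by
  obtain ⟨h1, h2, ⟨F⟩⟩ := Cfsg.Agent.KFacts.J4.Base.exists_full h
  exact of_inner (Cfsg.Agent.KFacts.J4.SheetJ4.inner F)

/-- **the exclusions of PU-U3-odd** (S5258) -/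
theorem excl {K : Type u} [Group K] [Finite K] [IsSimpleGroup K] {p n : ℕ} [Fact p.Prime] (hp2 : p ≠ 2) (hn : 1 ≤ n)
    (hS : (p ^ n) ^ 3 ∣ Nat.card (Sylow p K) - 1)
    (hexp : ∀ x : K, (∃ k, x ^ p ^ k = 1) → x ^ p = 1)
    (hGL : Nat.card K ∣ Nat.card (GL (Fin (6 * n)) (ZMod p)))
    (hinn : CpAut.AutInner p K → (Nat.card K).factorization p = 3 * n)
    (h : (p = 3 ∧ Lie.IsoRee K) ∨ Nonempty (K ≃* ↥(alternatingGroup (Fin (2 * p)))) ∨
      (p = 3 ∧ ((∃ (F : Type) (_ : Field F) (_ : Fintype F), Fintype.card F = 4 ∧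
          Nonempty (K ≃* Matrix.ProjectiveSpecialLinearGroup (Fin 3) F)) ∨
        (∃ (F : Type) (_ : Field F) (_ : Fintype F), Fintype.card F = 8 ∧
          Nonempty (K ≃* Matrix.ProjectiveSpecialLinearGroup (Fin 2) F)) ∨ Cfsg.Spor.IsoM11 K)) ∨
      (p = 5 ∧ (Cfsg.Lie.IsoTits K ∨ (∃ (F : Type) (_ : Field F) (_ : Fintype F), Fintype.card F = 32 ∧
          Nonempty (K ≃* ↥(Lie.Sz F 8))) ∨ Cfsg.Spor.IsoMcL K ∨ Cfsg.Spor.IsoFi22 K)) ∨
      (p = 11 ∧ Cfsg.Spor.IsoJ4 K)) : False := by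
  have hp : p.Prime := Fact.out
  rcases h with ⟨rfl, h⟩ | h | ⟨rfl, ⟨F, _, _, hF, ⟨e⟩⟩ | ⟨F, _, _, hF, ⟨e⟩⟩ | h⟩ |
    ⟨rfl, h | ⟨F, _, _, hF, ⟨e⟩⟩ | h | h⟩ | ⟨rfl, h⟩
  · exact ree h hexp
  · exact alt hp hp2 hn hinn h
  · refine l34 ((Dvd.dvd.trans ?_ hS)) hF e
    obtain ⟨m, rfl⟩ : ∃ m, n = m + 1 := ⟨n - 1, by omega⟩
    refine ⟨(3 ^ m) ^ 3, ?_⟩
    ring
  · exact l28 hexp hF e
  · exact two_ne (Cfsg.Agent.Cit.Eleven.isM11 h).2 hn (hinn (inn_m11 h 3 hp hp2)) (by norm_num)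
  · have hc : Nat.card K = 17971200 := by
      obtain ⟨e⟩ := h
      rw [Nat.card_congr e.toEquiv, S1074.result.2.2.2]
      norm_num
    exact two_ne hc hn (hinn (CpAutTits.Row.autInner h hp hp2)) (by norm_num)
  · exact sz32 hexp hF e
  · have hc := (Cfsg.Agent.TypeM.FactsMcL.facts h).2.2.1
    exact mcl hn hc hGL (hinn (inn_mcl h 5 hp hp2))
  · have hc : Nat.card K = 64561751654400 := by
      obtain ⟨e⟩ := h
      rw [Nat.card_congr e.toEquiv, S1696.result.2]
    exact two_ne hc hn (hinn (inn_fi22 h 5 hp hp2)) (by norm_num)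
  · have hc : Nat.card K = 86775571046077562880 := by
      obtain ⟨e⟩ := h
      rw [Nat.card_congr e.toEquiv, S1703.result.2]
    exact j4 hn hc hGL (hinn (inn_j4 h 11 hp hp2))

end Cfsg.Agent.H476.PU
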